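import Cfsg.Agent.Classical.UnitCentresStd
import Cfsg.Agent.UnitGeoSmall91.Nondeg
import Cfsg.Agent.Eq.Def_GeometricClasses

/-!
Non-degenerate subspace stabilisers in a special unitary group: centres spread when the complement has
dimension four or more.
-/

set_option autoImplicit false

namespace CfsgLib.SUSix96.Nondeg

section

open Matrix CfsgLib.TransvGL CfsgLib.UnitCentres

variable {ι : Type} [Fintype ι] [DecidableEq ι] {F : Type*} [Field F]
open CfsgLib.UnitGeoSmall91 (eq_zero_of_mem_both finrank_perp_ge exists_split mem_of_orth_perp perp_nondeg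
  exists_unit_in exists_norm_in)

variable {σ : F ≃+* F} {f : (ι → F) → (ι → F) → F} {W : Submodule F (ι → F)}

local notation "U" hf:max => perp hf (W : Set (ι → F))

/-- A unit vector of the complement orthogonal to a pair with non-zero product. -/
theorem exists_unit_pair [Finite F] (hf : Cfsg.Geo.IsUnitaryForm σ f)
    (hW : Cfsg.Geo.IsNondegenerateOn f W) (hn : 4 + Module.finrank F W ≤ Fintype.card ι) {p b : ι → F}
    (hp : p ∈ U hf) (hb : b ∈ U hf) (hpb : f p b ≠ 0) :
    ∃ u ∈ U hf, f u p = 0 ∧ f u b = 0 ∧ f u u = 1 := by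
  classical
  obtain ⟨u, hu, hu0⟩ : ∃ u ∈ U hf ⊓ perp hf ({p, b} : Set (ι → F)), f u u ≠ 0 := by
    by_contra hno
    push Not at hno
    set P := U hf ⊓ perp hf ({p, b} : Set (ι → F))
    set S := Submodule.span F ({p, b} : Set (ι → F))
    have hle : P ≤ S ⊔ W := by
      intro x hx
      by_contra hxS
      obtain ⟨d, hd, hxd⟩ := exists_orth_sep hf hxS
      refine hxd (orth_of_isotropic hf hno hx ⟨fun w hw => orth_comm hf (hd w (Submodule.mem_sup_right hw)),
        fun w hw => orth_comm hf (hd w (Submodule.mem_sup_left (Submodule.subset_span hw)))⟩)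
    have hS2 : Module.finrank F S ≤ 2 := by
      have := finrank_span_finset_le_card (R := F) ({p, b} : Finset (ι → F))
      have h2 := Finset.card_le_two (a := p) (b := b)
      rw [Set.finrank, Finset.coe_pair] at this
      exact this.trans h2
    have hPW : P ⊓ W = ⊥ :=
      (Submodule.eq_bot_iff _).2 fun y hy => eq_zero_of_mem_both hf hW hy.2 hy.1.1
    have h1 := Submodule.finrank_sup_add_finrank_inf_eq P W
    rw [hPW, finrank_bot, add_zero] at h1
    let L : U hf →ₗ[F] F × F := ((upair hf p).comp (U hf).subtype).prod ((upair hf b).comp (U hf).subtype)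
    have h5 := LinearMap.finrank_range_add_finrank_ker L
    have h6 : Module.finrank F (LinearMap.range L) ≤ 2 :=
      (Submodule.finrank_le _).trans (by simp)
    have h7 : (LinearMap.ker L).map (U hf).subtype ≤ P := by
      rintro _ ⟨y, hy, rfl⟩
      refine ⟨y.2, fun w hw => ?_⟩
      rcases hw with rfl | rfl
      · exact congrArg Prod.fst (LinearMap.mem_ker.1 hy)
      · exact congrArg Prod.snd (LinearMap.mem_ker.1 hy)
    have h8 := Submodule.finrank_mono h7
    rw [Submodule.finrank_map_subtype_eq] at h8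
    have h9 := finrank_perp_ge (W := W) hf
    have h3 := Submodule.finrank_add_le_finrank_add_finrank S W
    have heq : P ⊔ W = S ⊔ W := Submodule.eq_of_le_of_finrank_le (sup_le hle le_sup_right) (by omega)
    obtain ⟨x, hx, w, hw, he⟩ := Submodule.mem_sup.1
      (heq.ge (Submodule.mem_sup_left (Submodule.subset_span (Or.inl rfl))) : p ∈ P ⊔ W)
    have hw0 : w = 0 := eq_zero_of_mem_both hf hW hw (by
      rw [eq_sub_of_add_eq' he]; exact Submodule.sub_mem _ hp hx.1)
    refine hpb ?_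
    rw [← he, hw0, add_zero]
    exact hx.2 b (Or.inr rfl)
  obtain ⟨a, ha⟩ := exists_norm hf (r := (f u u)⁻¹) (by rw [map_inv₀, norm_fixed hf])
  refine ⟨a • u, Submodule.smul_mem _ _ hu.1, by rw [hf.smul_left, hu.2 p (Or.inl rfl), mul_zero],
    by rw [hf.smul_left, hu.2 b (Or.inr rfl), mul_zero], ?_⟩
  rw [hf.smul_left, smul_right hf, ← mul_assoc, ha, inv_mul_cancel₀ hu0]

/-- Prescribed product and norm. -/
theorem exists_pairing_in [Finite F] (hf : Cfsg.Geo.IsUnitaryForm σ f)
    (hW : Cfsg.Geo.IsNondegenerateOn f W) (hn : 4 + Module.finrank F W ≤ Fintype.card ι) {b : ι → F}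
    (hb : b ∈ U hf) (hb0 : b ≠ 0) (s : F) {ν : F} (hν : σ ν = ν) :
    ∃ x ∈ U hf, f x b = s ∧ f x x = ν := by
  classical
  obtain ⟨p, hp, hpb⟩ := perp_nondeg hf hW hb hb0
  obtain ⟨u, hu, hup, hub, huu⟩ := exists_unit_pair hf hW hn hp hb (by rw [hpb]; exact one_ne_zero)
  obtain ⟨l, hl⟩ := exists_norm hf (r := ν - f (s • p) (s • p)) (by rw [map_sub, hν, norm_fixed hf])
  refine ⟨s • p + l • u, Submodule.add_mem _ (Submodule.smul_mem _ _ hp) (Submodule.smul_mem _ _ hu), ?_, ?_⟩
  · rw [hf.add_left, hf.smul_left, hf.smul_left, hpb, hub, mul_one, mul_zero, add_zero]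
  · have hpu : f p u = 0 := orth_comm hf hup
    rw [hf.add_left, add_right hf, add_right hf]
    simp only [hf.smul_left, smul_right hf, huu, hpu, hup] at hl ⊢
    linear_combination hl

theorem exists_move [Finite F] (hf : Cfsg.Geo.IsUnitaryForm σ f)
    (hW : Cfsg.Geo.IsNondegenerateOn f W) (hn : 4 + Module.finrank F W ≤ Fintype.card ι)
    {a a' b b' : ι → F} (ha : a ∈ W) (ha' : a' ∈ W) (hb : b ∈ U hf) (hb' : b' ∈ U hf)
    (ha0 : a ≠ 0) (ha'0 : a' ≠ 0) (hb0 : b ≠ 0) (hb'0 : b' ≠ 0) (hN : f a a = f a' a')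
    (hN' : f b b = f b' b') :
    ∃ g : GL ι F, Iso f g ∧ g ∈ Cfsg.Geo.specialLinear ι F ∧
      g ∈ Cfsg.Geo.subspaceStabilizer W ∧ (g : Matrix ι ι F) *ᵥ (a + b) = a' + b' := by
  -- an isometry fixing the complement and moving `a`
  obtain ⟨p, hp, hap⟩ : ∃ p ∈ W, f a p = 1 := by
    obtain ⟨y, hy, hy'⟩ := (hW a ha ha0).2
    refine ⟨σ (f a y)⁻¹ • y, W.smul_mem _ hy, ?_⟩
    rw [smul_right hf, hf.involutive, inv_mul_cancel₀ hy']
  obtain ⟨g1, hg1, hg1U, hg1a⟩ : ∃ g : GL ι F, Iso f g ∧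
      (∀ u ∈ U hf, (g : Matrix ι ι F) *ᵥ u = u) ∧ (g : Matrix ι ι F) *ᵥ a = a' := by
    let X := U hf ⊔ Submodule.span F {a}
    let L : (ι → F) →ₗ[F] (ι → F) := LinearMap.id + (upair hf p).smulRight (a' - a)
    have key : ∀ x ∈ X, ∃ u ∈ U hf, ∃ k : F, x = u + k • a ∧ L x = u + k • a' := by
      intro x hx
      obtain ⟨u, hu, z, hz, rfl⟩ := Submodule.mem_sup.1 hx
      obtain ⟨k, rfl⟩ := Submodule.mem_span_singleton.1 hz
      refine ⟨u, hu, k, rfl, ?_⟩
      show (u + k • a) + f (u + k • a) p • (a' - a) = _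
      rw [hf.add_left, hf.smul_left, hu p hp, hap, mul_one, zero_add]
      module
    have hinj : Function.Injective (L.comp X.subtype) := by
      rw [← LinearMap.ker_eq_bot, Submodule.eq_bot_iff]
      rintro ⟨x, hx⟩ hx0
      obtain ⟨u, hu, k, rfl, hL⟩ := key x hx
      have h0 : u + k • a' = 0 := hL ▸ LinearMap.mem_ker.1 hx0
      have hk : k • a' = 0 := eq_zero_of_mem_both hf hW (W.smul_mem k ha')
        (by rw [eq_neg_of_add_eq_zero_right h0]; exact Submodule.neg_mem _ hu)
      rw [hk, add_zero] at h0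
      have hk0 := (smul_eq_zero.1 hk).resolve_right ha'0
      apply Subtype.ext
      show u + k • a = 0
      rw [h0, hk0, zero_smul, add_zero]
    obtain ⟨g, hg, hgx⟩ := CfsgLib.LinAlg.Witt.witt_unitaryFun hf X (L.comp X.subtype) hinj (by
      rintro ⟨x, hx⟩ ⟨y, hy⟩
      obtain ⟨u, hu, k, rfl, hL⟩ := key x hx
      obtain ⟨v, hv, l, rfl, hL'⟩ := key y hy
      show f (L (u + k • a)) (L (v + l • a)) = f (u + k • a) (v + l • a)
      rw [hL, hL', hf.add_left, hf.add_left, add_right hf, add_right hf, add_right hf, add_right hf,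
        hf.smul_left, hf.smul_left, hf.smul_left, hf.smul_left, smul_right hf, smul_right hf,
        smul_right hf, smul_right hf, hu a ha, hu a' ha', orth_comm hf (hv a ha),
        orth_comm hf (hv a' ha'), hN])
    have hLa : L a = a' := by
      obtain ⟨u, hu, k, hx, hL⟩ := key a (Submodule.mem_sup_right (Submodule.mem_span_singleton_self a))
      show a + f a p • (a' - a) = a'
      rw [hap, one_smul, add_sub_cancel]
    refine ⟨g, hg, fun u hu => ?_, ?_⟩
    · refine (hgx ⟨u, Submodule.mem_sup_left hu⟩).trans ?_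
      show u + f u p • (a' - a) = u
      rw [hu p hp, zero_smul, add_zero]
    · exact (hgx ⟨a, Submodule.mem_sup_right (Submodule.mem_span_singleton_self a)⟩).trans hLa
  have hg1W : ∀ w ∈ W, (g1 : Matrix ι ι F) *ᵥ w ∈ W := fun w hw => mem_of_orth_perp hf hW fun u hu => by
    rw [← hg1U u hu, hg1]; exact orth_comm hf (hu w hw)
  -- now adjust on the complement, with determinant one
  obtain ⟨u, hu, huS, huu⟩ := exists_unit_in hf hW {b'} (by simp; omega)
  obtain ⟨p', hp', hbp'⟩ := perp_nondeg hf hW hb hb0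
  let X := W ⊔ Submodule.span F {b}
  let G := Matrix.toLin' (g1 : Matrix ι ι F)
  let L : (ι → F) →ₗ[F] (ι → F) := G + (upair hf p').smulRight (b' - (g1 : Matrix ι ι F) *ᵥ b)
  have hbp : f b p' = 1 := by rw [hf.herm, hbp', map_one]
  have key : ∀ x ∈ X, ∃ w ∈ W, ∃ k : F, x = w + k • b ∧ L x = (g1 : Matrix ι ι F) *ᵥ w + k • b' := by
    intro x hx
    obtain ⟨w, hw, z, hz, rfl⟩ := Submodule.mem_sup.1 hx
    obtain ⟨k, rfl⟩ := Submodule.mem_span_singleton.1 hz
    refine ⟨w, hw, k, rfl, ?_⟩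
    show G (w + k • b) + f (w + k • b) p' • (b' - (g1 : Matrix ι ι F) *ᵥ b) = _
    rw [map_add, map_smul, Matrix.toLin'_apply, Matrix.toLin'_apply, hf.add_left, hf.smul_left,
      orth_comm hf (hp' w hw), hbp, mul_one, zero_add]
    module
  have hinj : Function.Injective (L.comp X.subtype) := by
    rw [← LinearMap.ker_eq_bot, Submodule.eq_bot_iff]
    rintro ⟨x, hx⟩ hx0
    obtain ⟨w, hw, k, rfl, hL⟩ := key x hx
    have h0 : (g1 : Matrix ι ι F) *ᵥ w + k • b' = 0 := hL ▸ LinearMap.mem_ker.1 hx0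
    have hk : (g1 : Matrix ι ι F) *ᵥ w = 0 := eq_zero_of_mem_both hf hW (hg1W w hw)
      (by rw [eq_neg_of_add_eq_zero_left h0]; exact Submodule.neg_mem _ (Submodule.smul_mem _ _ hb'))
    rw [hk, zero_add] at h0
    have hw0 : w = 0 := by rw [← inv_mulVec_mulVec g1 w, hk, mulVec_zero]
    apply Subtype.ext
    show w + k • b = 0
    rw [hw0, (smul_eq_zero.1 h0).resolve_right hb'0, zero_smul, add_zero]
  obtain ⟨g, hg, hgsl, hgx⟩ := exists_iso_special hf X (L.comp X.subtype) hinj (by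
    rintro ⟨x, hx⟩ ⟨y, hy⟩
    obtain ⟨w, hw, k, rfl, hL⟩ := key x hx
    obtain ⟨z, hz, l, rfl, hL'⟩ := key y hy
    show f (L (w + k • b)) (L (z + l • b)) = f (w + k • b) (z + l • b)
    rw [hL, hL', hf.add_left, hf.add_left, add_right hf, add_right hf, add_right hf, add_right hf,
      hf.smul_left, hf.smul_left, hf.smul_left, hf.smul_left, smul_right hf, smul_right hf,
      smul_right hf, smul_right hf, hg1, hb z hz, hb' _ (hg1W z hz), orth_comm hf (hb w hw),
      orth_comm hf (hb' _ (hg1W w hw)), hN']) huu (by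
    rintro ⟨x, hx⟩
    obtain ⟨w, hw, k, rfl, hL⟩ := key x hx
    show f (L (w + k • b)) u = 0
    rw [hL, hf.add_left, hf.smul_left, orth_comm hf (hu _ (hg1W w hw)),
      orth_comm hf (huS b' (by simp)), mul_zero, add_zero])
  refine ⟨g, hg, hgsl, mem_subspaceStabilizer_of_maps fun w hw => ?_, ?_⟩
  · rw [hgx ⟨w, Submodule.mem_sup_left hw⟩]
    show G w + f w p' • _ ∈ W
    rw [orth_comm hf (hp' w hw), zero_smul, add_zero, Matrix.toLin'_apply]
    exact hg1W w hw
  · rw [hgx ⟨a + b, Submodule.add_mem _ (Submodule.mem_sup_left ha)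
      (Submodule.mem_sup_right (Submodule.mem_span_singleton_self b))⟩]
    show G (a + b) + f (a + b) p' • (b' - (g1 : Matrix ι ι F) *ᵥ b) = _
    rw [map_add, Matrix.toLin'_apply, Matrix.toLin'_apply, hg1a, hf.add_left,
      orth_comm hf (hp' a ha), hbp, zero_add, one_smul]
    abel

theorem exists_mixed [Finite F] (hf : Cfsg.Geo.IsUnitaryForm σ f)
    (hW : Cfsg.Geo.IsNondegenerateOn f W) (hn : 4 + Module.finrank F W ≤ Fintype.card ι)
    (hdim : 2 * Module.finrank F W < Fintype.card ι) {g : GL ι F} (hg : Iso f g)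
    (hgW : g ∉ Cfsg.Geo.subspaceStabilizer W) :
    ∃ x ∈ U hf, f x x = 0 ∧ (g : Matrix ι ι F) *ᵥ x ∉ W ∧ (g : Matrix ι ι F) *ᵥ x ∉ U hf := by
  classical
  by_contra hc
  push Not at hc
  let G := Matrix.toLin' (g : Matrix ι ι F)
  have hinj : Function.Injective G := fun a b hab => by
    simp only [G, Matrix.toLin'_apply] at hab
    rw [← inv_mulVec_mulVec g a, hab, inv_mulVec_mulVec]
  have side : ∀ x ∈ U hf, f x x = 0 →
      (g : Matrix ι ι F) *ᵥ x ∈ W ∨ (g : Matrix ι ι F) *ᵥ x ∈ U hf :=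
    fun x hx hxx => or_iff_not_imp_left.2 (hc x hx hxx)
  -- an isotropic partner for any non-zero vector of the complement
  have partner : ∀ x ∈ U hf, x ≠ 0 → ∃ e ∈ U hf, f e e = 0 ∧ f e x ≠ 0 := fun x hx hx0 => by
    obtain ⟨e, he, hex, hee⟩ := exists_pairing_in hf hW hn hx hx0 1 (ν := 0) (map_zero σ)
    exact ⟨e, he, hee, by rw [hex]; exact one_ne_zero⟩
  obtain ⟨x0, hx0, hx00, -, hx0i⟩ := exists_norm_in hf hW ∅ (by simp; omega) (ν := 0) (map_zero σ)
  have same : ∀ P : Submodule F (ι → F), (P = W ∨ P = U hf) → (g : Matrix ι ι F) *ᵥ x0 ∈ P →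
      (U hf).map G ≤ P := by
    intro P hP hx0P
    have hne : ∀ x ∈ U hf, f x x = 0 → ∀ y ∈ U hf, f y y = 0 → f x y ≠ 0 →
        (g : Matrix ι ι F) *ᵥ x ∈ P → (g : Matrix ι ι F) *ᵥ y ∈ P := by
      intro x hx hxx y hy hyy hxy hxP
      have h0 : f ((g : Matrix ι ι F) *ᵥ x) ((g : Matrix ι ι F) *ᵥ y) ≠ 0 := by rw [hg]; exact hxy
      rcases hP with rfl | rfl <;> rcases side y hy hyy with h | h
      · exact h
      · exact absurd (orth_comm hf (h _ hxP)) h0
      · exact absurd (hxP _ h) h0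
      · exact h
    have hiso : ∀ y ∈ U hf, f y y = 0 → (g : Matrix ι ι F) *ᵥ y ∈ P := by
      intro y hy hyy
      by_cases hy0 : y = 0
      · rw [hy0, mulVec_zero]; exact P.zero_mem
      obtain ⟨p1, hp1, -, hp1x⟩ := partner x0 hx0 hx00
      obtain ⟨p2, hp2, -, hp2y⟩ := partner y hy hy0
      obtain ⟨p, hp, hpx, hpy⟩ : ∃ p ∈ U hf, f p x0 ≠ 0 ∧ f p y ≠ 0 := by
        by_cases h1 : f p1 y = 0
        · by_cases h2 : f p2 x0 = 0
          · exact ⟨p1 + p2, Submodule.add_mem _ hp1 hp2,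
              by rw [hf.add_left, h2, add_zero]; exact hp1x,
              by rw [hf.add_left, h1, zero_add]; exact hp2y⟩
          · exact ⟨p2, hp2, h2, hp2y⟩
        · exact ⟨p1, hp1, hp1x, h1⟩
      by_cases hxy : f x0 y = 0
      · obtain ⟨t, ht⟩ := exists_isotropic_shift hf hx0i
          (fun e => hpx (orth_comm hf e) : f x0 p ≠ 0)
        have hz : p + t • x0 ∈ U hf := Submodule.add_mem _ hp (Submodule.smul_mem _ _ hx0)
        have h1 : f x0 (p + t • x0) ≠ 0 := fun e => hpx (by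
          have := orth_comm hf e
          rwa [hf.add_left, hf.smul_left, hx0i, mul_zero, add_zero] at this)
        have h2 : f (p + t • x0) y ≠ 0 := by
          rw [hf.add_left, hf.smul_left, hxy, mul_zero, add_zero]; exact hpy
        exact hne _ hz ht y hy hyy h2 (hne x0 hx0 hx0i _ hz ht h1 hx0P)
      · exact hne x0 hx0 hx0i y hy hyy hxy hx0P
    rintro _ ⟨y, hy, rfl⟩
    rw [Matrix.toLin'_apply]
    by_cases hy0 : y = 0
    · rw [hy0, mulVec_zero]; exact P.zero_mem
    obtain ⟨e, he, hee, hey⟩ := partner y hy hy0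
    obtain ⟨t, ht⟩ := exists_isotropic_shift hf hee hey
    have hsplit : y = (y + t • e) - t • e := by rw [add_sub_cancel_right]
    rw [hsplit, mulVec_sub, mulVec_smul]
    exact P.sub_mem (hiso _ (Submodule.add_mem _ hy (Submodule.smul_mem _ _ he)) ht)
      (P.smul_mem _ (hiso e he hee))
  rcases side x0 hx0 hx0i with h | h
  · have h1 := Submodule.finrank_mono (same W (Or.inl rfl) h)
    rw [← (Submodule.equivMapOfInjective G hinj (U hf)).finrank_eq] at h1
    have h2 := finrank_perp_ge (W := W) hf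
    omega
  · have heq : (U hf).map G = U hf := Submodule.eq_of_le_of_finrank_eq (same _ (Or.inr rfl) h)
      (Submodule.equivMapOfInjective G hinj (U hf)).finrank_eq.symm
    refine hgW (mem_subspaceStabilizer_of_maps fun w hw => mem_of_orth_perp hf hW fun u hu => ?_)
    obtain ⟨z, hz, rfl⟩ : u ∈ (U hf).map G := heq.symm ▸ hu
    rw [Matrix.toLin'_apply, hg]
    exact orth_comm hf (hz w hw)

theorem centre_all [Finite F] (hf : Cfsg.Geo.IsUnitaryForm σ f) {M : Subgroup (GL ι F)}
    (hW : Cfsg.Geo.IsNondegenerateOn f W) (hn : 4 + Module.finrank F W ≤ Fintype.card ι)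
    (hPW : ∀ v ∈ W, f v v = 0 → Centre hf M v) (hPU : ∀ v ∈ U hf, f v v = 0 → Centre hf M v)
    (hmove : ∀ h, Iso f h → h ∈ Cfsg.Geo.specialLinear ι F →
      h ∈ Cfsg.Geo.subspaceStabilizer W → h ∈ M)
    {v : ι → F} (hv : Centre hf M v) (hvW : v ∉ W) (hvU : v ∉ U hf) :
    ∀ y, f y y = 0 → Centre hf M y := by
  -- norms of the two components of an isotropic vector
  have hsum : ∀ a ∈ W, ∀ b ∈ U hf, f (a + b) (a + b) = f a a + f b b := fun a ha b hb => by
    rw [hf.add_left, add_right hf, add_right hf, hb a ha, orth_comm hf (hb a ha)]; ring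
  have move : ∀ a ∈ W, ∀ b ∈ U hf, a ≠ 0 → b ≠ 0 → Centre hf M (a + b) →
      ∀ a' ∈ W, ∀ b' ∈ U hf, a' ≠ 0 → b' ≠ 0 → f (a' + b') (a' + b') = 0 →
        (f a a = f a' a' ∨ (f a a ≠ 0 ∧ f a' a' ≠ 0)) → Centre hf M (a' + b') := by
    intro a ha b hb ha0 hb0 hc a' ha' b' hb' ha'0 hb'0 hiso hcase
    obtain ⟨l, hl0, hl⟩ : ∃ l : F, l ≠ 0 ∧ f (l • a) (l • a) = f a' a' := by
      rcases hcase with h | ⟨h1, h2⟩
      · exact ⟨1, one_ne_zero, by rw [one_smul, h]⟩
      obtain ⟨l, hl⟩ := exists_norm hf (r := f a' a' / f a a)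
        (by rw [map_div₀, norm_fixed hf, norm_fixed hf])
      refine ⟨l, fun e => ?_, by rw [hf.smul_left, smul_right hf, ← mul_assoc, hl, div_mul_cancel₀ _ h1]⟩
      rw [e, zero_mul, eq_comm, div_eq_zero_iff] at hl
      exact hl.elim h2 h1
    have hbb : f (l • b) (l • b) = f b' b' := by
      have h1 := (hc.smul l).iso
      rw [smul_add, hsum _ (W.smul_mem l ha) _ (Submodule.smul_mem _ l hb), hl] at h1
      have h2 := hsum _ ha' _ hb'
      rw [hiso] at h2
      linear_combination h1 + h2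
    obtain ⟨g, hg, hgsl, hgst, hgv⟩ := exists_move hf hW hn (W.smul_mem l ha) ha'
      (Submodule.smul_mem _ l hb) hb' (smul_ne_zero hl0 ha0) ha'0 (smul_ne_zero hl0 hb0) hb'0 hl hbb
    have h3 := (hc.smul l).image (hmove g hg hgsl hgst) hg
    rw [smul_add, hgv] at h3
    exact h3
  obtain ⟨a, ha, hb⟩ := exists_split hf hW v
  set b := v - a with hbdef
  have hab : Centre hf M (a + b) := by rw [hbdef, add_sub_cancel]; exact hv
  have ha0 : a ≠ 0 := fun e => hvU (by simpa [hbdef, e] using hb)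
  have hb0 : b ≠ 0 := fun e => hvW (by rw [sub_eq_zero.1 e]; exact ha)
  obtain ⟨μ, hμ⟩ := exists_trace_one hf
  obtain ⟨c, hc0, hc⟩ := exists_traceZero hf
  -- a centre of the anisotropic class
  obtain ⟨a1, ha1, b1, hb1, ha10, hb10, hc1, hN1⟩ : ∃ a1 ∈ W, ∃ b1 ∈ U hf, a1 ≠ 0 ∧ b1 ≠ 0 ∧
      Centre hf M (a1 + b1) ∧ f a1 a1 ≠ 0 := by
    by_cases haa : f a a = 0
    · obtain ⟨y, hy, hy'⟩ := (hW a ha ha0).2
      obtain ⟨t, ht⟩ := exists_isotropic_shift hf haa hy'
      set z := y + t • a with hz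
      have hzW : z ∈ W := W.add_mem hy (W.smul_mem t ha)
      have hza : f a z ≠ 0 := by
        rw [hz, add_right hf, smul_right hf, haa, mul_zero, add_zero]; exact hy'
      set a' := σ (f a z)⁻¹ • z with ha'
      have ha'W : a' ∈ W := W.smul_mem _ hzW
      have hfaa' : f a a' = 1 := by rw [ha', smul_right hf, hf.involutive, inv_mul_cancel₀ hza]
      have ha'i : f a' a' = 0 := by rw [ha', hf.smul_left, smul_right hf, ht, mul_zero, mul_zero]
      have hbb : f b b = 0 := by
        have h1 := hab.iso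
        rw [hsum a ha b hb, haa, zero_add] at h1; exact h1
      set β := μ / c with hβ
      obtain ⟨b', hb', hb'b, hb'i⟩ := exists_pairing_in hf hW hn hb hb0 (σ β) (ν := 0) (map_zero σ)
      have hbb' : f b b' = β := by rw [hf.herm, hb'b, hf.involutive]
      have hcβ : c * β + σ (c * β) = 1 := by rw [hβ, mul_div_cancel₀ _ hc0]; exact hμ
      have hm : (1 : F) + β ≠ 0 := fun e => by
        have : β = -1 := by linear_combination e
        rw [this, mul_neg_one, map_neg] at hcβ
        exact one_ne_zero (by linear_combination -hcβ - hc : (1 : F) = 0)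
      have hv' : Centre hf M (a' + b') := by
        refine move a ha b hb ha0 hb0 hab a' ha'W b' hb' (fun e => ?_) (fun e => ?_) ?_ (Or.inl ?_)
        · rw [e, zero_right hf] at hfaa'; exact zero_ne_one hfaa'
        · rw [e, zero_right hf] at hbb'
          rw [← hbb', mul_zero, map_zero, add_zero] at hcβ
          exact zero_ne_one hcβ
        · rw [hsum a' ha'W b' hb', ha'i, hb'i, add_zero]
        · rw [haa, ha'i]
      have hvv' : f (a + b) (a' + b') = 1 + β := by
        rw [hf.add_left, add_right hf, add_right hf, hfaa', hbb', orth_comm hf (hb' a ha), hb a' ha'W]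
        ring
      set tt := c * (1 + β) with htt
      have hN : f (a + tt • a') (a + tt • a') ≠ 0 := by
        rw [norm_add_smul hf, haa, ha'i, hfaa', hf.herm a' a, hfaa', map_one, htt, map_mul, map_add,
          map_one]
        intro e
        rw [map_mul] at hcβ
        exact one_ne_zero (by linear_combination e - hc - hcβ : (1 : F) = 0)
      have heq : (1 : F) • (a + b) + tt • (a' + b') = (a + tt • a') + (b + tt • b') := by module
      have hline := hab.line hv' (by rw [hvv']; exact hm) (a := 1) (b := tt) (by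
        rw [one_smul, norm_add_smul hf, hab.iso, hv'.iso, hvv', hf.herm (a' + b'), hvv', htt, map_mul]
        linear_combination ((1 + β) * σ (1 + β)) * hc)
      rw [heq] at hline
      refine ⟨_, W.add_mem ha (W.smul_mem _ ha'W), _, Submodule.add_mem _ hb (Submodule.smul_mem _ _ hb'),
        fun e => hN (by rw [e, zero_left hf]), fun e => hN ?_, hline, hN⟩
      have h1 := hline.iso
      rwa [e, add_zero] at h1
    · exact ⟨a, ha, b, hb, ha0, hb0, hab, haa⟩
  intro y hy
  obtain ⟨a2, ha2, hb2⟩ := exists_split hf hW y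
  obtain ⟨b2, hb2def⟩ : ∃ b2, b2 = y - a2 := ⟨_, rfl⟩
  rw [← hb2def] at hb2
  have hyeq : y = a2 + b2 := by rw [hb2def, add_sub_cancel]
  by_cases ha20 : a2 = 0
  · exact hPU y (by simpa [hb2def, ha20] using hb2) hy
  by_cases hb20 : b2 = 0
  · exact hPW y (by rw [hb2def] at hb20; rw [sub_eq_zero.1 hb20]; exact ha2) hy
  rw [hyeq] at hy ⊢
  by_cases hN2 : f a2 a2 = 0
  · -- the singular class through a line
    obtain ⟨p, hp, hp1⟩ : ∃ p ∈ W, f p a2 = 1 := by
      obtain ⟨x, hx, hx'⟩ := (hW a2 ha2 ha20).1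
      exact ⟨(f x a2)⁻¹ • x, W.smul_mem _ hx, by rw [hf.smul_left, inv_mul_cancel₀ hx']⟩
    have hp1' : f a2 p = 1 := by rw [hf.herm, hp1, map_one]
    obtain ⟨t, ht⟩ := exists_trace hf (r := 1 - f p p) (by rw [map_sub, map_one, norm_fixed hf])
    set a3 := p + t • a2 with ha3
    have ha3W : a3 ∈ W := W.add_mem hp (W.smul_mem t ha2)
    have h32 : f a3 a2 = 1 := by rw [ha3, hf.add_left, hf.smul_left, hN2, mul_zero, add_zero, hp1]
    have h33 : f a3 a3 = 1 := by
      rw [ha3, norm_add_smul hf, hp1, hp1', hN2]; linear_combination ht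
    obtain ⟨b3, hb3, hb32, hb33⟩ := exists_pairing_in hf hW hn hb2 hb20 (c - 1) (ν := -1)
      (by rw [map_neg, map_one])
    have hb2n : f b2 b2 = 0 := by
      have h1 := hsum a2 ha2 b2 hb2
      rw [hy, hN2, zero_add] at h1; exact h1.symm
    have hu : Centre hf M (a3 + b3) := by
      refine move a1 ha1 b1 hb1 ha10 hb10 hc1 a3 ha3W b3 hb3 (fun e => ?_) (fun e => ?_) ?_
        (Or.inr ⟨hN1, by rw [h33]; exact one_ne_zero⟩)
      · rw [e, zero_left hf] at h33; exact zero_ne_one h33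
      · rw [e, zero_left hf] at hb33; exact one_ne_zero (neg_eq_zero.1 hb33.symm)
      · rw [hsum a3 ha3W b3 hb3, h33, hb33, add_neg_cancel]
    have hd : Centre hf M ((a2 - a3) + (b2 - b3)) := by
      have hNa : f (a2 - a3) (a2 - a3) = -1 := by
        rw [sub_left hf, sub_right hf, sub_right hf, hN2, h33, h32, hf.herm a2 a3, h32, map_one]; ring
      have hNb : f (b2 - b3) (b2 - b3) = 1 := by
        rw [sub_left hf, sub_right hf, sub_right hf, hb2n, hb33, hb32, hf.herm b2 b3, hb32, map_sub,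
          map_one]
        linear_combination -hc
      refine move a1 ha1 b1 hb1 ha10 hb10 hc1 _ (W.sub_mem ha2 ha3W) _
        (Submodule.sub_mem _ hb2 hb3) (fun e => ?_) (fun e => ?_) ?_
        (Or.inr ⟨hN1, by rw [hNa]; exact neg_ne_zero.2 one_ne_zero⟩)
      · rw [e, zero_left hf] at hNa; exact one_ne_zero (neg_eq_zero.1 hNa.symm)
      · rw [e, zero_left hf] at hNb; exact zero_ne_one hNb
      · rw [hsum _ (W.sub_mem ha2 ha3W) _ (Submodule.sub_mem _ hb2 hb3), hNa, hNb, neg_add_cancel]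
    refine hu.of_move ?_ ?_ hy
    · have : a2 + b2 - (a3 + b3) = (a2 - a3) + (b2 - b3) := by abel
      rw [this]; exact hd
    · rw [hf.add_left, add_right hf, add_right hf, h32, hb32, orth_comm hf (hb2 a3 ha3W),
        hb3 a2 ha2]
      simpa using hc0
  · exact move a1 ha1 b1 hb1 ha10 hb10 hc1 a2 ha2 b2 hb2 ha20 hb20 hy (Or.inr ⟨hN1, hN2⟩)

end

open CfsgLib.UnitGeoSmall91 (eq_zero_of_mem_both exists_norm_in)
open Cfsg

/-- The stabiliser of a non-degenerate subspace is maximal when its complement has dimension four or more. -/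
theorem nd_maximal_four {F : Type*} [Field F] [Fintype F] (n q : ℕ) (hF : Fintype.card F = q ^ 2) (hn4 : 4 ≤ n) (W : Submodule F (Fin n → F)) (hn : 4 + Module.finrank F W ≤ n) (hW0 : W ≠ ⊥) (hW : Cfsg.Geo.IsNondegenerateOn (Cfsg.hermForm n F q) W) (hdim : 2 * Module.finrank F W < n) : Cfsg.Geo.IsMaximalIn (Cfsg.GU n F q ⊓ Cfsg.Geo.specialLinear (Fin n) F) (Cfsg.Geo.subspaceStabilizer W ⊓ (Cfsg.GU n F q ⊓ Cfsg.Geo.specialLinear (Fin n) F)) := by
  obtain ⟨σ, hσ, hf⟩ := CfsgLib.LinAlg.Witt.exists_isUnitaryForm_hermForm (n := n) hF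
  have hcard : 4 + Module.finrank F W ≤ Fintype.card (Fin n) := by rw [Fintype.card_fin]; omega
  refine ⟨lt_of_le_not_ge inf_le_right fun h => ?_, fun M hHM hMK => ?_⟩
  · obtain ⟨w, hw, hw0⟩ := W.ne_bot_iff.1 hW0
    obtain ⟨a, ha, hwa⟩ := (hW w hw hw0).2
    obtain ⟨u, hu, hu0, -, huu⟩ := exists_norm_in hf hW ∅ (by simp; omega) (ν := -hermForm n F q a a)
      (by rw [map_neg, CfsgLib.UnitCentres.norm_fixed hf])
    obtain ⟨c, hc0, hc⟩ := CfsgLib.UnitCentres.exists_traceZero hf
    have hzz : hermForm n F q (a + u) (a + u) = 0 := by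
      rw [hf.add_left, CfsgLib.UnitCentres.add_right hf, CfsgLib.UnitCentres.add_right hf, hu a ha,
        CfsgLib.UnitCentres.orth_comm hf (hu a ha), huu]
      ring
    have h1 := CfsgLib.TransvGL.mem_subspaceStabilizer.1 (h (CfsgLib.UnitCentres.mem_special.2
      ⟨CfsgLib.UnitCentres.uT_iso hf hzz hc, CfsgLib.UnitCentres.uT_mem_specialLinear hf hzz c⟩)).1 w
    have h2 := h1.1 hw
    rw [CfsgLib.UnitCentres.uT_mulVec, CfsgLib.UnitCentres.add_right hf,
      CfsgLib.UnitCentres.orth_comm hf (hu w hw), add_zero, W.add_mem_iff_right hw,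
      W.smul_mem_iff (mul_ne_zero hc0 hwa), W.add_mem_iff_right ha] at h2
    exact hu0 (eq_zero_of_mem_both hf hW h2 hu)
  · by_cases hle : M ≤ Geo.subspaceStabilizer W ⊓ (GU n F q ⊓ Geo.specialLinear (Fin n) F)
    · exact Or.inl (le_antisymm hle hHM)
    obtain ⟨g, hgM, hgH⟩ := SetLike.not_le_iff_exists.1 hle
    refine Or.inr (le_antisymm hMK (CfsgLib.UnitCentres.gu_le_of_centres hF (by omega) hσ hf ?_))
    have hgi := (CfsgLib.UnitCentres.mem_special.1 (hMK hgM)).1
    obtain ⟨x, hx, hxx, hgx1, hgx2⟩ := exists_mixed hf hW hcard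
      (by rw [Fintype.card_fin]; omega) hgi (fun hs => hgH ⟨hs, hMK hgM⟩)
    have hG : ∀ v (hv : hermForm n F q v v = 0) c, c + σ c = 0 →
        CfsgLib.UnitCentres.uT hf hv c ∈ GU n F q ⊓ Geo.specialLinear (Fin n) F := fun v hv c hc =>
      CfsgLib.UnitCentres.mem_special.2
        ⟨CfsgLib.UnitCentres.uT_iso hf hv hc, CfsgLib.UnitCentres.uT_mem_specialLinear hf hv c⟩
    have hPU : ∀ v ∈ CfsgLib.UnitCentres.perp hf (W : Set (Fin n → F)), hermForm n F q v v = 0 →
        CfsgLib.UnitCentres.Centre hf M v := fun v hv hvv => ⟨hvv, fun c hc => hHM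
      ⟨CfsgLib.UnitCentres.uT_mem_subspaceStabilizer hf hvv
        (Or.inr fun x hx => CfsgLib.UnitCentres.orth_comm hf (hv x hx)) c, hG v hvv c hc⟩⟩
    exact centre_all hf hW hcard
      (fun v hv hvv => ⟨hvv, fun c hc => hHM
        ⟨CfsgLib.UnitCentres.uT_mem_subspaceStabilizer hf hvv (Or.inl hv) c, hG v hvv c hc⟩⟩)
      hPU (fun k hk hks hkst => hHM ⟨hkst, CfsgLib.UnitCentres.mem_special.2 ⟨hk, hks⟩⟩)
      ((hPU x hx hxx).image hgM hgi) hgx1 hgx2



end CfsgLib.SUSix96.Nondeg
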